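import Cfsg.Agent.Lib.Comp.J4n.Perm

set_option maxRecDepth 100000
set_option Elab.async false

namespace Cfsg.Lib.Comp.J4n

universe u

theorem card : Nat.card (cl (gp nets) L) = 244823040 := card_of_ord J4e.n_ord nets_iv nets_rel lb

def Lc : List ℕ := [1,2,3,64,65,66,67,68,69,70,71,72,73,74,75,76,77,78,79,80,81,82,83,84,85,86,87,88,89,90,91,92,93,94,95,96,97,98,99,100,101,102,103,104]

theorem cl_lc : cl (gp nets) Lc = cl (gp nets) L := by
  rw [show Lc = L ++ slp.map (·.1) by decide +kernel]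
  exact cl_eq_of_slpB nets_ok (by norm_num) slp_ok

noncomputable def Lv : List Lev := [([1,64,65,66,67,68,69,70,71,72,73,74,75,76,77,78,79,80,81,82],[2,1,2,64,66,68,69,82,2,80,1,64,2,71,78,2,1],0,0,3795),
 ([66,67,68,69,70,71,72,73,74,75,76,77,78,79,80,81,82],[1,64,66,1,71,69],3795,3795,24),
 ([69,70,71,72,73,74,75,76,77,78,79,80,81,82],[66,66,68,71],3796,3796,7),
 ([73,74,75,76,77,78,79,80,81,82],[69,71,69],1,1,6),
 ([77,78,79,80,81,82],[73,75],7,7,4),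
 ([81,82],[77,78],579,579,4),
 ([81],[82],67,67,2),
 ([],[81],307,307,2)]

theorem ex : Exact nets Lv Lc := exact_of_beq (n := 244823040) (by rw [cl_lc]; exact card.le) (by decide +kernel)

noncomputable def tb : ℕ → ℕ → ℕ := tbx 4096 (tbk 12 4 prs12 nets 256)

theorem tb_ok : TbA nets tb := tbA_tbx nets_ok (tbk_eq tr12 (by norm_num) (by norm_num) (by norm_num) nets_ok)

def B : List ℕ := [0,3795,3796,1,7,579,67,307]

def civ : ℕ → ℕ := fun x => look (nat_lit 0x67686566636461625f605d5e5b5c595a5758555653545251504f4e4d4c4b494a4748454644424340413f3e3d3c3b3a393837363534333231302f2e2d2c2b2a292827262524232221201f1e1d1c1b1a191817161514131211100f0e0d0c0b0a09080706050402030100) 8 x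

def al : ℕ → ℕ := fun x => x

def j1 : List ℕ := []

def j2 : List ℕ := []

theorem ctl : Ctl nets tb B Lc civ (cl (gp nets) L) :=
  ctl_of tb_ok (by rw [← cl_lc, show B = bases Lv by decide +kernel]; exact ex.isBase nets_ok) (fun _ ha => cl_lc ▸ mem_cl ha) (by decide +kernel)

noncomputable def D0 : List (ℕ × ℕ × List ℕ) := [(92,0,[65,90,65,88,85,90,84,87,83]),
 (91,0,[84,88,83,89,86,87,64,89,64]),
 (90,0,[87,81,82,81,71,80,75,72,76]),
 (89,0,[76,71,75,80,72,81,82,81,88]),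
 (88,0,[81,71,68,86,74,71,85,83,68]),
 (87,0,[68,84,86,72,73,85,68,72,81]),
 (86,0,[66,84,67,80,81,1,80,69,76]),
 (85,0,[76,70,80,1,81,80,66,83,67]),
 (84,0,[78,79,76,72,82,1,73,72,72]),
 (83,0,[71,71,74,1,82,71,76,79,78]),
 (82,0,[77,79]),
 (81,0,[80,77]),
 (80,0,[75,77,75]),
 (79,0,[73,73]),
 (78,0,[73,76]),
 (77,0,[70,70,70]),
 (76,0,[71,71]),
 (75,0,[70,71,70]),
 (74,0,[71,70,72,70]),
 (73,0,[69,71,69,72]),
 (72,0,[66,66,68]),
 (71,0,[68,67,67]),
 (70,0,[66,68,66,66]),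
 (69,0,[67,67,68,67]),
 (68,0,[65,1,65,65,1,64]),
 (67,0,[64,1,64,64,1]),
 (66,0,[1,65,65,1,65]),
 (1,1,[1]),
 (64,2,[3,1,3,1,3,1,2,1,2,1,3,1,3]),
 (65,3,[2,1,2,1,3,1,3,1,2,1,2,1,2])]

noncomputable def L0 : List ℕ := mapL (·.1) D0

theorem lev0 : (∀ g ∈ cl (gp nets) L, g 0 < 3795) ∧ ∀ g ∈ cl (gp nets) L, g 0 = 0 → g ∈ cl (gp nets) L0 :=
  Exact.ctl nets_ok ex cl_lc (by decide +kernel)

theorem l0_sub : ∀ a ∈ L0, a ∈ Lc := sub_of_subB (by decide +kernel)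

theorem l0_fix : ∀ g ∈ cl (gp nets) L0, g 0 = 0 := fix_letters tb_ok (by decide +kernel)

end Cfsg.Lib.Comp.J4n
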