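import Cfsg.Agent.Lib.Comp.J4n.Up0

set_option maxRecDepth 100000
set_option Elab.async false

namespace Cfsg.Lib.Comp.J4n

universe u

theorem uD_23 : allR 23 715 1 (fun j => der tb B Lc civ L0 al j1 j2 uPR uF (uD j) j) = true := by decide +kernel

end Cfsg.Lib.Comp.J4n
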