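import Cfsg.Agent.Lib.Comp.J4n.Up4

set_option maxRecDepth 100000
set_option Elab.async false

namespace Cfsg.Lib.Comp.J4n

universe u

theorem uD_3054 : allR 3054 219 1 (fun j => der tb B Lc civ L0 al j1 j2 uPR uF (uD j) j) = true := by decide +kernel

theorem uD_ok : ∀ j, 23 ≤ j → j < 3273 → der tb B Lc civ L0 al j1 j2 uPR uF (uD j) j = true :=
  (rng_app (rng_app (rng_app (rng_app (rng_of_allR uD_23) (rng_of_allR uD_738)) (rng_of_allR uD_1494)) (rng_of_allR uD_2268)) (rng_of_allR uD_3054))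

end Cfsg.Lib.Comp.J4n
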